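import Groth.Agent.H60.InertiaBr.Norm
import Groth.Agent.H66.Base
import Groth.Prelude.Def_GLin
import Mathlib.RingTheory.Artinian.Module
import Mathlib.FieldTheory.IsAlgClosed.Basic
import Mathlib.RingTheory.Polynomial.Basic
import Mathlib.RingTheory.IntegralClosure.IsIntegralClosure.Basic

/-!
Points of `Spec B` with values in an algebraically closed field which agree on the invariants of an
action of a finite locally free group scheme are translates of each other; `B` is integral over the
invariants.
-/

set_option autoImplicit false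
set_option linter.unusedSectionVars false

universe u v w w'

open TensorProduct Polynomial

namespace Groth.Agent.H60.InertiaBr

noncomputable section

section Shift

variable {R : Type u} [CommRing R] {A : Type v} [CommRing A] [HopfAlgebra R A]
variable {T : Type w} [CommRing T] [Algebra R T]

theorem comp_conv {A' T T' : Type*} [CommRing T] [CommRing T'] [Algebra R T] [Algebra R T']
    [CommRing A'] [Bialgebra R A'] (F : T →ₐ[R] T') (f f' : WithConv (A' →ₐ[R] T)) :
    WithConv.toConv (F.comp (f * f').ofConv) =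
      WithConv.toConv (F.comp f.ofConv) * WithConv.toConv (F.comp f'.ofConv) := by
  apply WithConv.ofConv_injective
  refine AlgHom.ext fun a => ?_
  change F (Algebra.TensorProduct.lmul' R (Algebra.TensorProduct.map f.ofConv f'.ofConv
      (Bialgebra.comulAlgHom R A' a))) =
    Algebra.TensorProduct.lmul' R (Algebra.TensorProduct.map (F.comp f.ofConv) (F.comp f'.ofConv)
      (Bialgebra.comulAlgHom R A' a))
  induction Bialgebra.comulAlgHom R A' a using TensorProduct.induction_on with
  | zero => simp
  | tmul x y => simp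
  | add x y hx hy => simp only [map_add, hx, hy]

/-- `1 ⊗ b ↦ γ b₁ ⊗ b₂`. -/
def shiftGen (gm : A →ₐ[R] T) : A →ₐ[R] T ⊗[R] A :=
  (Algebra.TensorProduct.map gm (AlgHom.id R A)).comp (Bialgebra.comulAlgHom R A)

/-- Translation of `T ⊗ A` by the point `γ`. -/
def shift (gm : A →ₐ[R] T) : T ⊗[R] A →ₐ[T] T ⊗[R] A :=
  Algebra.TensorProduct.lift (Algebra.ofId _ _) (shiftGen gm) fun _ _ => Commute.all _ _

theorem shift_tmul (gm : A →ₐ[R] T) (t : T) (b : A) :
    shift gm (t ⊗ₜ[R] b) = (t ⊗ₜ[R] (1 : A)) * shiftGen gm b := by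
  rw [shift, Algebra.TensorProduct.lift_tmul, Algebra.ofId_apply,
    Algebra.TensorProduct.algebraMap_apply, Algebra.algebraMap_self, RingHom.id_apply]

theorem toConv_shiftGen (gm : A →ₐ[R] T) :
    WithConv.toConv (shiftGen gm) =
      WithConv.toConv ((Algebra.TensorProduct.includeLeft : T →ₐ[R] T ⊗[R] A).comp gm) *
        WithConv.toConv Algebra.TensorProduct.includeRight := by
  apply WithConv.ofConv_injective
  refine AlgHom.ext fun b => ?_
  change Algebra.TensorProduct.map gm (AlgHom.id R A) (Bialgebra.comulAlgHom R A b) =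
    Algebra.TensorProduct.lmul' R (Algebra.TensorProduct.map
      ((Algebra.TensorProduct.includeLeft : T →ₐ[R] T ⊗[R] A).comp gm)
      Algebra.TensorProduct.includeRight (Bialgebra.comulAlgHom R A b))
  induction Bialgebra.comulAlgHom R A b using TensorProduct.induction_on with
  | zero => simp
  | tmul x y => simp [Algebra.TensorProduct.tmul_mul_tmul]
  | add x y hx hy => simp only [map_add, hx, hy]

theorem shift_shift (g d : A →ₐ[R] T) (h : WithConv.toConv d * WithConv.toConv g = 1) :
    (shift g).comp (shift d) = AlgHom.id T (T ⊗[R] A) := by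
  refine Algebra.TensorProduct.ext (Subsingleton.elim _ _) ?_
  let F : T ⊗[R] A →ₐ[R] T ⊗[R] A := (shift g).restrictScalars R
  let L : T →ₐ[R] T ⊗[R] A := Algebra.TensorProduct.includeLeft
  have h1 : F.comp (L.comp d) = L.comp d := by
    refine AlgHom.ext fun b => ?_
    show shift g (d b ⊗ₜ[R] 1) = d b ⊗ₜ[R] 1
    rw [shift_tmul, map_one, mul_one]
  have h2 : F.comp (Algebra.TensorProduct.includeRight : A →ₐ[R] T ⊗[R] A) = shiftGen g := by
    refine AlgHom.ext fun b => ?_
    show shift g (1 ⊗ₜ[R] b) = _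
    rw [shift_tmul, ← Algebra.TensorProduct.one_def, one_mul]
  have key : WithConv.toConv (F.comp (shiftGen d)) =
      WithConv.toConv (Algebra.TensorProduct.includeRight : A →ₐ[R] T ⊗[R] A) := by
    have e := congrArg WithConv.ofConv (toConv_shiftGen d)
    rw [show shiftGen d = _ from e, comp_conv]
    simp only [WithConv.ofConv_toConv]
    rw [h1, h2, toConv_shiftGen g, ← mul_assoc]
    have e2 : WithConv.toConv (L.comp d) * WithConv.toConv (L.comp g) = 1 := by
      have := comp_conv L (WithConv.toConv d) (WithConv.toConv g)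
      simp only [WithConv.ofConv_toConv] at this
      rw [← this, h]
      apply WithConv.ofConv_injective
      exact AlgHom.ext fun b => L.commutes _
    rw [show WithConv.toConv ((Algebra.TensorProduct.includeLeft : T →ₐ[R] T ⊗[R] A).comp d) =
      WithConv.toConv (L.comp d) from rfl, e2, one_mul]
  refine AlgHom.ext fun b => ?_
  show shift g (shift d (1 ⊗ₜ[R] b)) = 1 ⊗ₜ[R] b
  rw [shift_tmul, ← Algebra.TensorProduct.one_def, one_mul]
  exact congrArg (fun f : WithConv (A →ₐ[R] T ⊗[R] A) => f.ofConv b) key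

theorem antipode_mul (g : A →ₐ[R] T) :
    WithConv.toConv (g.comp (HopfAlgebra.antipodeAlgHom R A)) * WithConv.toConv g = 1 := by
  have := comp_conv g (WithConv.toConv (HopfAlgebra.antipodeAlgHom R A))
    (WithConv.toConv (AlgHom.id R A))
  simp only [WithConv.ofConv_toConv, AlgHom.comp_id] at this
  rw [← this, AlgHom.antipode_id_cancel]
  apply WithConv.ofConv_injective
  exact AlgHom.ext fun b => g.commutes _

theorem antipode_mul' (g : A →ₐ[R] T) :
    WithConv.toConv g * WithConv.toConv (g.comp (HopfAlgebra.antipodeAlgHom R A)) = 1 := by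
  have h : WithConv.toConv (HopfAlgebra.antipodeAlgHom R A) * WithConv.toConv (AlgHom.id R A) = 1 :=
    AlgHom.antipode_id_cancel
  have h' : WithConv.toConv (AlgHom.id R A) * WithConv.toConv (HopfAlgebra.antipodeAlgHom R A) = 1 := by
    apply WithConv.ofConv_injective
    apply AlgHom.toLinearMap_injective
    apply WithConv.toConv_injective
    rw [AlgHom.toLinearMap_convMul, AlgHom.toLinearMap_convOne]
    simp [LinearMap.id_mul_antipode]
  have := comp_conv g (WithConv.toConv (AlgHom.id R A)) (WithConv.toConv (HopfAlgebra.antipodeAlgHom R A))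
  simp only [WithConv.ofConv_toConv, AlgHom.comp_id] at this
  rw [← this, h']
  apply WithConv.ofConv_injective
  exact AlgHom.ext fun b => g.commutes _

/-- Translation as an automorphism. -/
def shiftEquiv (g : A →ₐ[R] T) : T ⊗[R] A ≃ₐ[T] T ⊗[R] A :=
  AlgEquiv.ofAlgHom (shift g) (shift (g.comp (HopfAlgebra.antipodeAlgHom R A)))
    (shift_shift _ _ (antipode_mul g))
    (shift_shift _ _ (antipode_mul' g))

theorem shiftEquiv_apply (g : A →ₐ[R] T) (z : T ⊗[R] A) : shiftEquiv g z = shift g z := by
  unfold shiftEquiv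
  simp

variable {B : Type w'} [CommRing B] [Algebra R B] [HopfRep.Comod R A B] [GLin.IsCoactAlg R A B]

local notation "ρ" => GLin.coactAlgHom R A B

theorem map_coact_eq (al : B ⊗[R] A →ₐ[R] T) (b : B) :
    Algebra.TensorProduct.map (al.comp ρ) (AlgHom.id R A) (ρ b) =
      shift (al.comp Algebra.TensorProduct.includeRight)
        (Algebra.TensorProduct.map (al.comp Algebra.TensorProduct.includeLeft) (AlgHom.id R A) (ρ b)) := by
  have h1 : ∀ y : B ⊗[R] A, Algebra.TensorProduct.map (al.comp ρ) (AlgHom.id R A) y =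
      Algebra.TensorProduct.map al (AlgHom.id R A)
        ((HopfRep.Comod.coact (k := R) (A := A)).rTensor A y) := fun y => by
    induction y using TensorProduct.induction_on with
    | zero => simp
    | tmul a b => simp
    | add a b ha hb => simp only [map_add, ha, hb]
  rw [h1, GLin.coactAlgHom_apply, Groth.Agent.H66.Base.coassoc_symm_apply]
  induction HopfRep.Comod.coact (k := R) (A := A) b using TensorProduct.induction_on with
  | zero => simp
  | tmul r c =>
    rw [Algebra.TensorProduct.map_tmul, AlgHom.id_apply, shift_tmul, LinearMap.lTensor_tmul, shiftGen,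
      AlgHom.comp_apply, AlgHom.comp_apply, Bialgebra.comulAlgHom_apply]
    induction CoalgebraStruct.comul (R := R) c using TensorProduct.induction_on with
    | zero => simp
    | tmul d e =>
      simp only [TensorProduct.assoc_symm_tmul, Algebra.TensorProduct.map_tmul, AlgHom.id_apply,
        AlgHom.comp_apply, Algebra.TensorProduct.includeRight_apply,
        Algebra.TensorProduct.includeLeft_apply, Algebra.TensorProduct.tmul_mul_tmul, one_mul]
      rw [← map_mul, Algebra.TensorProduct.tmul_mul_tmul, one_mul, mul_one]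
    | add c d hc hd => simp only [map_add, TensorProduct.tmul_add, mul_add, hc, hd]
  | add a b ha hb => simp only [map_add, ha, hb]

theorem coact_counit (b : B) :
    Algebra.TensorProduct.lift (AlgHom.id R B) ((Algebra.ofId R B).comp (Bialgebra.counitAlgHom R A))
      (fun _ _ => Commute.all _ _) (ρ b) = b := by
  have h : ∀ y : B ⊗[R] A, Algebra.TensorProduct.lift (AlgHom.id R B)
      ((Algebra.ofId R B).comp (Bialgebra.counitAlgHom R A)) (fun _ _ => Commute.all _ _) y =
      TensorProduct.rid R B ((CoalgebraStruct.counit (R := R) (A := A)).lTensor B y) := fun y => by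
    induction y using TensorProduct.induction_on with
    | zero => simp
    | tmul a b => simp [Algebra.smul_def, mul_comm]
    | add a b ha hb => simp only [map_add, ha, hb]
  rw [h, GLin.coactAlgHom_apply, Groth.Agent.H66.Base.rid_counit_apply]

end Shift

section Conj

variable {R : Type u} [CommRing R] {A : Type v} [CommRing A] [HopfAlgebra R A]
  [Module.Finite R A] [Module.Projective R A]
variable {B : Type w'} [CommRing B] [Algebra R B] [HopfRep.Comod R A B] [GLin.IsCoactAlg R A B]

local notation "ρ" => GLin.coactAlgHom R A B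

/-- `∑ Xᵢ ρ(bᵢ)` over the polynomial ring. -/
def univElt {n : ℕ} (b : Fin n → B) : MvPolynomial (Fin n) B ⊗[R] A :=
  ∑ i, (MvPolynomial.X i ⊗ₜ[R] (1 : A)) *
    Algebra.TensorProduct.map (IsScalarTower.toAlgHom R B (MvPolynomial (Fin n) B)) (AlgHom.id R A) (ρ (b i))

theorem map_univElt {n : ℕ} (b : Fin n → B) {T : Type w} [CommRing T] [Algebra R T]
    (e : MvPolynomial (Fin n) B →ₐ[R] T) :
    Algebra.TensorProduct.map e (AlgHom.id R A) (univElt b) =
      ∑ i, (e (MvPolynomial.X i) ⊗ₜ[R] (1 : A)) *
        Algebra.TensorProduct.map (e.comp (IsScalarTower.toAlgHom R B (MvPolynomial (Fin n) B)))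
          (AlgHom.id R A) (ρ (b i)) := by
  rw [univElt, map_sum]
  refine Finset.sum_congr rfl fun i _ => ?_
  rw [map_mul, Algebra.TensorProduct.map_tmul, AlgHom.id_apply, ← AlgHom.comp_apply,
    ← Algebra.TensorProduct.map_comp, AlgHom.id_comp]

theorem coeff_cp_univElt_mem (σ : Split R A) {n : ℕ} (b : Fin n → B) (j : ℕ) (m : Fin n →₀ ℕ) :
    MvPolynomial.coeff m ((σ.cp (MvPolynomial (Fin n) B) (univElt b)).coeff j) ∈
      GLin.invariants R A B := by
  let P' := MvPolynomial (Fin n) (B ⊗[R] A)
  let phi : MvPolynomial (Fin n) B →ₐ[R] P' := MvPolynomial.mapAlgHom (GLin.coactAlgHom R A B)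
  let psi : MvPolynomial (Fin n) B →ₐ[R] P' :=
    MvPolynomial.mapAlgHom (Algebra.TensorProduct.includeLeft : B →ₐ[R] B ⊗[R] A)
  let al : B ⊗[R] A →ₐ[R] P' := IsScalarTower.toAlgHom R (B ⊗[R] A) P'
  have hphi : phi.comp (IsScalarTower.toAlgHom R B (MvPolynomial (Fin n) B)) = al.comp ρ :=
    AlgHom.ext fun x => MvPolynomial.map_C _ x
  have hpsi : psi.comp (IsScalarTower.toAlgHom R B (MvPolynomial (Fin n) B)) =
      al.comp Algebra.TensorProduct.includeLeft :=
    AlgHom.ext fun x => MvPolynomial.map_C _ x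
  have key : Algebra.TensorProduct.map phi (AlgHom.id R A) (univElt b) =
      shiftEquiv (al.comp Algebra.TensorProduct.includeRight)
        (Algebra.TensorProduct.map psi (AlgHom.id R A) (univElt b)) := by
    rw [map_univElt, map_univElt, map_sum, hphi, hpsi]
    refine Finset.sum_congr rfl fun i _ => ?_
    rw [map_mul, map_coact_eq]
    congr 1
    · rw [shiftEquiv_apply, shift_tmul, map_one, mul_one]
      have e1 : phi (MvPolynomial.X i) = MvPolynomial.X i := MvPolynomial.map_X _ i
      have e2 : psi (MvPolynomial.X i) = MvPolynomial.X i := MvPolynomial.map_X _ i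
      rw [e1, e2]
  have h := congrArg (σ.cp P') key
  rw [σ.cp_equiv, σ.cp_map, σ.cp_map] at h
  have h2 := congrArg (fun p => MvPolynomial.coeff m (Polynomial.coeff p j)) h
  rw [GLin.mem_invariants_iff, ← GLin.coactAlgHom_apply]
  simp only [Polynomial.coeff_map] at h2
  exact (MvPolynomial.coeff_map _ _ m).symm.trans (h2.trans (MvPolynomial.coeff_map _ _ m))

theorem eq_of_eq_on_invariants {K : Type w} [CommRing K] [Algebra R K] (σ : Split R A)
    (x1 x2 : B →ₐ[R] K) (hx : ∀ c ∈ GLin.invariants R A B, x1 c = x2 c)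
    {n : ℕ} (b : Fin n → B) (t : Fin n → K) :
    σ.cp K (∑ i, (t i ⊗ₜ[R] (1 : A)) * Algebra.TensorProduct.map x1 (AlgHom.id R A) (ρ (b i))) =
      σ.cp K (∑ i, (t i ⊗ₜ[R] (1 : A)) * Algebra.TensorProduct.map x2 (AlgHom.id R A) (ρ (b i))) := by
  let e : (B →ₐ[R] K) → MvPolynomial (Fin n) B →ₐ[R] K := fun x => MvPolynomial.aevalTower x t
  have he : ∀ x, (∑ i, (t i ⊗ₜ[R] (1 : A)) * Algebra.TensorProduct.map x (AlgHom.id R A) (ρ (b i))) =
      Algebra.TensorProduct.map (e x) (AlgHom.id R A) (univElt b) := fun x => by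
    rw [map_univElt]
    refine Finset.sum_congr rfl fun i _ => ?_
    congr 2
    · simp [e]
    · congr 1
      exact AlgHom.ext fun y => by simp [e, MvPolynomial.algebraMap_eq]
  rw [he, he, σ.cp_map, σ.cp_map]
  refine Polynomial.ext fun j => ?_
  rw [Polynomial.coeff_map, Polynomial.coeff_map]
  set q := (σ.cp (MvPolynomial (Fin n) B) (univElt b)).coeff j with hq
  show e x1 q = e x2 q
  rw [q.as_sum, map_sum, map_sum]
  refine Finset.sum_congr rfl fun m _ => ?_
  have hm := hx _ (coeff_cp_univElt_mem σ b j m)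
  rw [← hq] at hm
  rw [MvPolynomial.monomial_eq, map_mul, map_mul]
  congr 1
  · simpa [e] using hm
  · rw [Finsupp.prod, map_prod, map_prod]
    exact Finset.prod_congr rfl fun i _ => by simp [e]

/-- The value of a translate. -/
abbrev moved {K : Type w} [CommRing K] [Algebra R K] (x : B →ₐ[R] K) (g : A →ₐ[R] K) : B →ₐ[R] K :=
  (Algebra.TensorProduct.lift x g fun _ _ => Commute.all _ _).comp (GLin.coactAlgHom R A B)

theorem moved_counit {K : Type w} [CommRing K] [Algebra R K] (x : B →ₐ[R] K) :
    moved x ((Algebra.ofId R K).comp (Bialgebra.counitAlgHom R A)) = x := by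
  refine AlgHom.ext fun b => ?_
  conv_rhs => rw [← coact_counit (R := R) (A := A) b]
  show Algebra.TensorProduct.lift x ((Algebra.ofId R K).comp (Bialgebra.counitAlgHom R A))
    (fun _ _ => Commute.all _ _) (GLin.coactAlgHom R A B b) = x _
  generalize GLin.coactAlgHom R A B b = z
  induction z using TensorProduct.induction_on with
  | zero => simp
  | tmul p q => simp
  | add p q hp hq => simp only [map_add, hp, hq]

theorem lift_map_eq {K : Type w} [CommRing K] [Algebra R K] (x : B →ₐ[R] K) (g : A →ₐ[R] K)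
    (z : B ⊗[R] A) :
    Algebra.TensorProduct.lift (AlgHom.id K K) g (fun _ _ => Commute.all _ _)
      (Algebra.TensorProduct.map x (AlgHom.id R A) z) =
      Algebra.TensorProduct.lift x g (fun _ _ => Commute.all _ _) z := by
  induction z using TensorProduct.induction_on with
  | zero => simp
  | tmul p q => simp
  | add p q hp hq => simp only [map_add, hp, hq]

theorem exists_moved_eq {K : Type w} [Field K] [IsAlgClosed K] [Algebra R K]
    (x1 x2 : B →ₐ[R] K) (hx : ∀ c ∈ GLin.invariants R A B, x1 c = x2 c) :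
    ∃ g : A →ₐ[R] K, moved x1 g = x2 := by
  classical
  obtain ⟨σ⟩ := exists_split R A
  haveI : Module.Finite K (K ⊗[R] A) := Module.Finite.base_change _ _ _
  haveI : IsArtinianRing (K ⊗[R] A) := isArtinian_of_tower K inferInstance
  have hker : Function.Injective (fun g : A →ₐ[R] K => (⟨RingHom.ker
      (Algebra.TensorProduct.lift (AlgHom.id K K) g fun _ _ => Commute.all _ _), RingHom.ker_isPrime _⟩ :
      PrimeSpectrum (K ⊗[R] A))) := fun g g' h => by
    refine AlgHom.ext fun a => ?_
    have hI := congrArg PrimeSpectrum.asIdeal h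
    have h1 : algebraMap K (K ⊗[R] A) (g a) - (1 : K) ⊗ₜ[R] a ∈ RingHom.ker
        (Algebra.TensorProduct.lift (AlgHom.id K K) g fun _ _ => Commute.all _ _) := by
      simp [RingHom.mem_ker]
    rw [show RingHom.ker (Algebra.TensorProduct.lift (AlgHom.id K K) g fun _ _ => Commute.all _ _) = _
      from hI] at h1
    simpa [RingHom.mem_ker, sub_eq_zero] using h1
  haveI : Finite (A →ₐ[R] K) := Finite.of_injective _ hker
  haveI : Fintype (A →ₐ[R] K) := Fintype.ofFinite _
  by_contra hne
  push Not at hne
  have hw : ∀ g : A →ₐ[R] K, ∃ b, moved x1 g b ≠ x2 b := fun g => by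
    by_contra h
    push Not at h
    exact hne g (AlgHom.ext h)
  choose wb hwb using hw
  let E := Option (A →ₐ[R] K)
  let eq := Fintype.equivFin E
  let b : Fin (Fintype.card E) → B := fun i => (eq.symm i).elim 1 wb
  let L : E → K[X] := fun o => ∑ i, Polynomial.C (o.elim (x2 (b i)) (fun g => moved x1 g (b i) - x2 (b i))) * X ^ (i : ℕ)
  have hL : ∀ o, L o ≠ 0 := fun o h0 => by
    have h1 := congrArg (fun p => Polynomial.coeff p ((eq o : Fin _) : ℕ)) h0
    simp only [L, Polynomial.finsetSum_coeff, Polynomial.coeff_C_mul_X_pow, Fin.val_inj,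
      Finset.sum_ite_eq, Finset.mem_univ, if_true, Polynomial.coeff_zero] at h1
    cases o with
    | none => simp [b] at h1
    | some g => exact hwb g (by simpa [b, sub_eq_zero] using h1)
  have hP : (∏ o, L o) ≠ 0 := Finset.prod_ne_zero_iff.mpr fun o _ => hL o
  obtain ⟨s, hs⟩ : ∃ s, (∏ o, L o).eval s ≠ 0 := by
    by_contra h
    push Not at h
    exact hP (Polynomial.funext fun s => by rw [h s, Polynomial.eval_zero])
  rw [Polynomial.eval_prod, Finset.prod_ne_zero_iff] at hs
  let t : Fin (Fintype.card E) → K := fun i => s ^ (i : ℕ)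
  let y : (B →ₐ[R] K) → K ⊗[R] A := fun x =>
    ∑ i, (t i ⊗ₜ[R] (1 : A)) * Algebra.TensorProduct.map x (AlgHom.id R A) (ρ (b i))
  let chr : (A →ₐ[R] K) → K ⊗[R] A →ₐ[K] K := fun g =>
    Algebra.TensorProduct.lift (AlgHom.id K K) g fun _ _ => Commute.all _ _
  have hval : ∀ x g, chr g (y x) = ∑ i, t i * moved x g (b i) := fun x g => by
    simp only [y, chr, map_sum, map_mul, lift_map_eq]
    refine Finset.sum_congr rfl fun i _ => ?_
    simp
  have hc0 : (∑ i, t i * x2 (b i)) ≠ 0 := by
    intro h
    refine hs none (Finset.mem_univ _) ?_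
    rw [← h]
    simp only [L, t, Polynomial.eval_finsetSum, Option.elim_none]
    exact Finset.sum_congr rfl fun i _ => by
      rw [Polynomial.eval_mul, Polynomial.eval_C, Polynomial.eval_pow, Polynomial.eval_X, mul_comm]
  have hroot2 : (σ.cp K (y x2)).IsRoot (∑ i, t i * x2 (b i)) := by
    rw [σ.isRoot_cp_iff hc0]
    intro hu
    have h := hu.map (chr ((Algebra.ofId R K).comp (Bialgebra.counitAlgHom R A)))
    rw [map_sub, AlgHom.commutes, hval, moved_counit, Algebra.algebraMap_self, RingHom.id_apply,
      sub_self] at h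
    exact not_isUnit_zero h
  have hroot1 : (σ.cp K (y x1)).IsRoot (∑ i, t i * x2 (b i)) := by
    show (σ.cp K (∑ i, (t i ⊗ₜ[R] (1 : A)) * _)).IsRoot _
    rw [eq_of_eq_on_invariants σ x1 x2 hx b t]
    exact hroot2
  rw [σ.isRoot_cp_iff hc0] at hroot1
  obtain ⟨m, hm, hmem⟩ := exists_max_ideal_of_mem_nonunits hroot1
  haveI := hm
  letI : Field (K ⊗[R] A ⧸ m) := Ideal.Quotient.field m
  haveI : Module.Finite K (K ⊗[R] A ⧸ m) :=
    Module.Finite.of_surjective (Ideal.Quotient.mkₐ K m).toLinearMap Ideal.Quotient.mk_surjective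
  let iso : K ≃ₐ[K] (K ⊗[R] A ⧸ m) :=
    AlgEquiv.ofBijective (Algebra.ofId K _) (IsAlgClosed.algebraMap_bijective_of_isIntegral)
  let c : K ⊗[R] A →ₐ[K] K := iso.symm.toAlgHom.comp (Ideal.Quotient.mkₐ K m)
  let g : A →ₐ[R] K := (c.restrictScalars R).comp Algebra.TensorProduct.includeRight
  have hcg : c = chr g := Algebra.TensorProduct.ext (Subsingleton.elim _ _)
    (AlgHom.ext fun a => by simp [chr, g])
  have h0 : c (algebraMap K _ (∑ i, t i * x2 (b i)) - y x1) = 0 := by
    show iso.symm (Ideal.Quotient.mkₐ K m _) = 0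
    rw [Ideal.Quotient.mkₐ_eq_mk, Ideal.Quotient.eq_zero_iff_mem.mpr hmem, map_zero]
  rw [hcg, map_sub, AlgHom.commutes, Algebra.algebraMap_self, RingHom.id_apply, hval, sub_eq_zero] at h0
  refine hs (some g) (Finset.mem_univ _) ?_
  rw [← sub_eq_zero.mpr h0.symm, ← Finset.sum_sub_distrib]
  simp only [L, t, Polynomial.eval_finsetSum, Option.elim_some]
  exact Finset.sum_congr rfl fun i _ => by simp; ring

theorem coeff_cp_coact_mem (σ : Split R A) (x : B) (j : ℕ) :
    (σ.cp B (ρ x)).coeff j ∈ GLin.invariants R A B := by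
  rw [GLin.mem_invariants_iff, ← GLin.coactAlgHom_apply]
  have h := congrArg (σ.cp (B ⊗[R] A)) (map_coact_eq (AlgHom.id R (B ⊗[R] A)) x)
  rw [← shiftEquiv_apply, σ.cp_equiv, σ.cp_map, σ.cp_map] at h
  have h2 := congrArg (fun q => Polynomial.coeff q j) h
  simp only [Polynomial.coeff_map] at h2
  exact h2

theorem eval_cp_coact (σ : Split R A) (x : B) : (σ.cp B (ρ x)).eval x = 0 := by
  let E : B ⊗[R] A →ₐ[B] B := Algebra.TensorProduct.lift (AlgHom.id B B)
    ((Algebra.ofId R B).comp (Bialgebra.counitAlgHom R A)) fun _ _ => Commute.all _ _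
  have hE : E (ρ x) = x := by
    refine Eq.trans ?_ (coact_counit (R := R) (A := A) x)
    generalize GLin.coactAlgHom R A B x = z
    induction z using TensorProduct.induction_on with
    | zero => simp
    | tmul p q => simp [E]
    | add p q hp hq => simp only [map_add, hp, hq]
  have h := congrArg E (σ.aeval_cp B (ρ x))
  rw [← Polynomial.aeval_algHom_apply, hE, map_zero, Polynomial.coe_aeval_eq_eval] at h
  exact h

theorem isIntegral_invariants : Algebra.IsIntegral (GLin.invariants R A B) B := ⟨fun x => by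
  obtain ⟨σ⟩ := exists_split R A
  have hl : σ.cp B (ρ x) ∈ Polynomial.lifts (algebraMap (GLin.invariants R A B) B) := by
    rw [Polynomial.lifts_iff_coeff_lifts]
    exact fun i => ⟨⟨_, coeff_cp_coact_mem σ x i⟩, rfl⟩
  obtain ⟨q, hq, -, hmon⟩ := Polynomial.lifts_and_natDegree_eq_and_monic hl (σ.monic_cp B _)
  refine ⟨q, hmon, ?_⟩
  rw [Polynomial.eval₂_eq_eval_map, hq]
  exact eval_cp_coact σ x⟩

end Conj

end

end Groth.Agent.H60.InertiaBr
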