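import Groth.Agent.H60.InertiaBr.Conj
import Groth.Prelude.Def_CoactBr
import Mathlib.RingTheory.LocalRing.Module
import Mathlib.RingTheory.Support
import Mathlib.AlgebraicGeometry.PullbackCarrier
import Mathlib.AlgebraicGeometry.Morphisms.Flat
import Mathlib.AlgebraicGeometry.Morphisms.FinitePresentation

/-!
Inertia of an action of a finite locally free group scheme on an affine scheme: the support of the
inertia module, transport along translations, and the locus where the inertia is trivial.
-/

set_option autoImplicit false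
set_option linter.unusedSectionVars false

universe u

open CategoryTheory CategoryTheory.Limits MonoidalCategory CartesianMonoidalCategory MonObj AlgebraicGeometry CoactBr
open scoped TensorProduct

namespace Groth.Agent.H60.InertiaBr

noncomputable section

variable {R : Type u} [CommRing R]

theorem exists_pt' {B K : Type u} [CommRing B] [CommRing K] [Algebra R B] [Algebra R K]
    (f : sp R K ⟶ sp R B) : ∃ φ : B →ₐ[R] K, pt φ = f := by
  obtain ⟨h, hh⟩ : ∃ h, Spec.map h = f.left := ⟨_, Spec.map_preimage f.left⟩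
  have hw : CommRingCat.ofHom (algebraMap R B) ≫ h = CommRingCat.ofHom (algebraMap R K) := by
    refine Spec.map_injective ?_
    rw [Spec.map_comp, hh]
    exact Over.w f
  refine ⟨{ h.hom with commutes' := fun c => congrArg (fun g => g.hom c) hw }, Over.OverMorphism.ext ?_⟩
  rw [pt_left, ← hh]
  rfl

theorem ext_affine {T Z : Over (Spec (CommRingCat.of R))} {g g' : T ⟶ Z}
    (H : ∀ (L : Type u) [CommRing L] [Algebra R L] (p : sp R L ⟶ T), p ≫ g = p ≫ g') : g = g' := by
  refine Over.OverMorphism.ext (T.left.affineOpenCover.openCover.hom_ext _ _ fun i => ?_)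
  have key : ∀ (L : CommRingCat.{u}) (f : Spec L ⟶ T.left), f ≫ g.left = f ≫ g'.left := by
    intro L f
    letI : Algebra R L := (Spec.preimage (f ≫ T.hom)).hom.toAlgebra
    have hw : f ≫ T.hom = (sp R L).hom := (Spec.map_preimage _).symm
    exact congrArg CommaMorphism.left (H L (Over.homMk f hw))
  exact key _ _

variable (R) (A B : Type u) [CommRing A] [HopfAlgebra R A] [CommRing B] [Algebra R B]
  [HopfRep.Comod R A B] [GLin.IsCoactAlg R A B]

local notation "ρ" => GLin.coactAlgHom R A B

/-- The ideal of the inertia group scheme. -/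
def inertJ : Ideal (B ⊗[R] A) := Ideal.span (Set.range fun b => ρ b - b ⊗ₜ[R] (1 : A))

/-- Functions on the inertia group scheme. -/
abbrev InertF : Type u := (B ⊗[R] A) ⧸ inertJ R A B

/-- Functions on the inertia modulo constants. -/
abbrev InertMod : Type u := InertF R A B ⧸ LinearMap.range (Algebra.linearMap B (InertF R A B))

instance [Module.Finite R A] : Module.Finite B (InertMod R A B) := by
  haveI : Module.Finite B (B ⊗[R] A) := Module.Finite.base_change _ _ _
  haveI : Module.Finite B (InertF R A B) :=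
    Module.Finite.of_surjective (Ideal.Quotient.mkₐ B (inertJ R A B)).toLinearMap Ideal.Quotient.mk_surjective
  exact Module.Finite.quotient B _

variable {R A B}

/-- The inertia at a point is trivial. -/
def Triv {K : Type u} [CommRing K] [Algebra R K] (x : B →ₐ[R] K) : Prop :=
  ∀ (T : Over (Spec (CommRingCat.of R))) (h : T ⟶ sp R K) (g : T ⟶ sp R A),
    lift (h ≫ pt x) g ≫ ract R A B = h ≫ pt x → g = 1

theorem triv_iff {K : Type u} [CommRing K] [Algebra R K] (x : B →ₐ[R] K) :
    (∀ (T : Over (Spec (CommRingCat.of R))) (h : T ⟶ sp R K) (g : T ⟶ sp R A),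
      lift g (h ≫ pt x) ≫ (action R A B).act = h ≫ pt x → g = 1) ↔ Triv (A := A) x := by
  constructor
  · intro H T h g hg
    have := H T h g⁻¹ (by rw [lift_action_act, inv_inv]; exact hg)
    exact inv_eq_one.mp this
  · intro H T h g hg
    rw [lift_action_act] at hg
    exact inv_eq_one.mp (H T h g⁻¹ hg)

theorem moved_fix {L : Type u} [CommRing L] [Algebra R L] (ζ : B →ₐ[R] L) (g : A →ₐ[R] L) :
    lift (pt ζ) (pt g) ≫ ract R A B = pt ζ ↔ moved ζ g = ζ := by
  rw [lift_pt_ract]
  exact ⟨fun h => pt_injective h, fun h => congrArg pt h⟩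

theorem eq_counit {L : Type u} [CommRing L] [Algebra R L] (ζ : B →ₐ[R] L) (g : A →ₐ[R] L)
    (hfix : moved ζ g = ζ)
    (hunit : (Module.annihilator B (InertMod R A B)).map ζ.toRingHom = ⊤) :
    g = (Algebra.ofId R L).comp (Bialgebra.counitAlgHom R A) := by
  refine AlgHom.ext fun a => ?_
  let φ : B ⊗[R] A →ₐ[R] L := Algebra.TensorProduct.lift ζ g fun _ _ => Commute.all _ _
  have hφJ : ∀ z ∈ inertJ R A B, φ z = 0 := fun z hz =>
    RingHom.mem_ker.mp <| Ideal.span_le.mpr (by
      rintro _ ⟨b, rfl⟩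
      have hb : φ (ρ b) = ζ b := DFunLike.congr_fun hfix b
      simp only [SetLike.mem_coe, RingHom.mem_ker, map_sub, hb]
      simp [φ]) hz
  let E : B ⊗[R] A →ₐ[R] B := Algebra.TensorProduct.lift (AlgHom.id R B)
    ((Algebra.ofId R B).comp (Bialgebra.counitAlgHom R A)) fun _ _ => Commute.all _ _
  have hEJ : ∀ z ∈ inertJ R A B, E z = 0 := fun z hz =>
    RingHom.mem_ker.mp <| Ideal.span_le.mpr (by
      rintro _ ⟨b, rfl⟩
      have hb : E (ρ b) = b := coact_counit b
      simp only [SetLike.mem_coe, RingHom.mem_ker, map_sub, hb]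
      simp [E]) hz
  have hs : ∀ s ∈ Module.annihilator B (InertMod R A B),
      ζ s * (g a - algebraMap R L (Bialgebra.counitAlgHom R A a)) = 0 := fun s hs => by
    have h0 := Module.mem_annihilator.mp hs
      (Submodule.Quotient.mk (Ideal.Quotient.mk (inertJ R A B) ((1 : B) ⊗ₜ[R] a)))
    rw [← Submodule.Quotient.mk_smul, Submodule.Quotient.mk_eq_zero, LinearMap.mem_range] at h0
    obtain ⟨b, hb⟩ := h0
    have hmem : (b ⊗ₜ[R] (1 : A)) - s ⊗ₜ[R] a ∈ inertJ R A B := by
      rw [← Ideal.Quotient.eq_zero_iff_mem, map_sub, sub_eq_zero]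
      refine hb.trans ?_
      show Ideal.Quotient.mk _ (s • ((1 : B) ⊗ₜ[R] a)) = _
      exact congrArg _ (by rw [TensorProduct.smul_tmul', smul_eq_mul, _root_.mul_one])
    have e1 := hEJ _ hmem
    have e2 := hφJ _ hmem
    simp only [map_sub, E, φ, Algebra.TensorProduct.lift_tmul, map_one, _root_.mul_one, AlgHom.coe_id, id_eq,
      AlgHom.comp_apply, Algebra.ofId_apply, sub_eq_zero] at e1 e2
    rw [mul_sub, ← e2, e1, map_mul, AlgHom.commutes, sub_self]
  have hle : (Module.annihilator B (InertMod R A B)).map ζ.toRingHom ≤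
      (Submodule.span L {g a - algebraMap R L (Bialgebra.counitAlgHom R A a)}).annihilator := by
    rw [Ideal.map_le_iff_le_comap]
    intro s hs'
    rw [Ideal.mem_comap, Submodule.mem_annihilator_span_singleton, smul_eq_mul]
    exact hs s hs'
  rw [hunit] at hle
  have h1 := Submodule.mem_annihilator_span_singleton _ _ |>.mp (hle (Submodule.mem_top : (1 : L) ∈ ⊤))
  rw [one_smul, sub_eq_zero] at h1
  exact h1

/-- An action with points outside the support of the inertia is free there. -/
theorem eq_one {T : Over (Spec (CommRingCat.of R))} (ζ : T ⟶ sp R B) (g : T ⟶ sp R A)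
    (hfix : lift ζ g ≫ ract R A B = ζ)
    (hsupp : ∀ (L : Type u) [CommRing L] [Algebra R L] (p : sp R L ⟶ T) (φ : B →ₐ[R] L),
      pt φ = p ≫ ζ → (Module.annihilator B (InertMod R A B)).map φ.toRingHom = ⊤) : g = 1 := by
  refine ext_affine fun L _ _ p => ?_
  obtain ⟨φ, hφ⟩ := exists_pt' (p ≫ ζ)
  obtain ⟨γ', hγ⟩ := exists_pt' (p ≫ g)
  rw [MonObj.comp_one, ← hγ, one_eq_pt]
  refine congrArg pt (eq_counit φ γ' ((moved_fix _ _).mp ?_) (hsupp L p φ hφ))
  rw [hφ, hγ, ← comp_lift_assoc, hfix]

theorem triv_of_notMem [Module.Finite R A] {K : Type u} [Field K] [Algebra R K] (x : B →ₐ[R] K)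
    (hx : (⟨RingHom.ker x, RingHom.ker_isPrime _⟩ : PrimeSpectrum B) ∉
      Module.support B (InertMod R A B)) : Triv (A := A) x := by
  intro T h g hg
  refine eq_one _ g hg fun L _ _ p φ hφ => ?_
  obtain ⟨ψ, hψ⟩ := exists_pt' (p ≫ h)
  have e : φ = ψ.comp x := pt_injective (by rw [hφ, pt_comp, hψ, Category.assoc])
  rw [Module.support_eq_zeroLocus, PrimeSpectrum.mem_zeroLocus, SetLike.coe_subset_coe,
    SetLike.le_def] at hx
  push Not at hx
  obtain ⟨s, hs, hsx⟩ := hx
  refine Ideal.eq_top_of_isUnit_mem _ (Ideal.mem_map_of_mem _ hs) ?_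
  rw [e]
  exact (isUnit_iff_ne_zero.mpr (fun h0 => hsx (RingHom.mem_ker.mpr h0)) : IsUnit (x s)).map ψ

theorem universal_test {K : Type u} [CommRing K] [Algebra R K] (x : B →ₐ[R] K) (hx : Triv (A := A) x)
    {L : Type u} [CommRing L] [Algebra R L] (ψ : K →ₐ[R] L) (φ : InertF R A B →ₐ[R] L)
    (compat : ∀ b, ψ (x b) = φ (algebraMap B (InertF R A B) b)) (a : A) :
    φ (Ideal.Quotient.mk (inertJ R A B) ((1 : B) ⊗ₜ[R] a)) =
      ψ (algebraMap R K (Bialgebra.counitAlgHom R A a)) := by
  let g : A →ₐ[R] L :=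
    φ.comp ((Ideal.Quotient.mkₐ R (inertJ R A B)).comp Algebra.TensorProduct.includeRight)
  have hlift : Algebra.TensorProduct.lift (ψ.comp x) g (fun _ _ => Commute.all _ _) =
      φ.comp (Ideal.Quotient.mkₐ R (inertJ R A B)) := by
    refine Algebra.TensorProduct.ext' fun b a => ?_
    rw [Algebra.TensorProduct.lift_tmul, AlgHom.comp_apply, compat]
    show φ _ * φ _ = φ _
    refine (map_mul φ _ _).symm.trans (congrArg φ ?_)
    show Ideal.Quotient.mk (inertJ R A B) (b ⊗ₜ[R] (1 : A)) *
        Ideal.Quotient.mk (inertJ R A B) ((1 : B) ⊗ₜ[R] a) =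
      Ideal.Quotient.mk (inertJ R A B) (b ⊗ₜ[R] a)
    exact (map_mul (Ideal.Quotient.mk (inertJ R A B)) _ _).symm.trans
      (congrArg _ (by rw [Algebra.TensorProduct.tmul_mul_tmul, _root_.mul_one, _root_.one_mul]))
  have hfix : moved (ψ.comp x) g = ψ.comp x := by
    refine AlgHom.ext fun b => ?_
    show Algebra.TensorProduct.lift (ψ.comp x) g (fun _ _ => Commute.all _ _) (ρ b) = ψ (x b)
    rw [hlift, compat]
    refine congrArg φ ?_
    exact Ideal.Quotient.eq.mpr (Ideal.subset_span ⟨b, rfl⟩)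
  have hg1 := hx (sp R L) (pt ψ) (pt g) (by
    rw [← pt_comp]
    exact (moved_fix _ _).mpr hfix)
  rw [one_eq_pt] at hg1
  exact (DFunLike.congr_fun (pt_injective hg1) a).trans (ψ.commutes _).symm

theorem notMem_of_triv [Module.Finite R A] {K : Type u} [Field K] [Algebra R K] (x : B →ₐ[R] K)
    (hx : Triv (A := A) x) :
    (⟨RingHom.ker x, RingHom.ker_isPrime _⟩ : PrimeSpectrum B) ∉
      Module.support B (InertMod R A B) := by
  intro hmem
  haveI := RingHom.ker_isPrime x
  rw [Module.mem_support_iff_nontrivial_residueField_tensorProduct] at hmem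
  obtain ⟨l, hl⟩ : ∃ l : (RingHom.ker x).ResidueField ⊗[B] InertMod R A B →ₗ[(RingHom.ker x).ResidueField]
      (RingHom.ker x).ResidueField, l ≠ 0 := exists_ne 0
  letI : Algebra B K := x.toRingHom.toAlgebra
  haveI : IsScalarTower R B K := IsScalarTower.of_algebraMap_eq fun r => (x.commutes r).symm
  let j : (RingHom.ker x).ResidueField →ₐ[B] K :=
    Ideal.ResidueField.liftₐ (RingHom.ker x) (Algebra.ofId B K) (by exact le_refl _)
      (by
        intro b hb
        refine IsUnit.mem_submonoid_iff _ |>.mpr (isUnit_iff_ne_zero.mpr ?_)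
        exact fun h0 => hb (RingHom.mem_ker.mpr h0))
  let l' : InertMod R A B →ₗ[B] K :=
    j.toLinearMap ∘ₗ (l.restrictScalars B) ∘ₗ
      TensorProduct.mk B (RingHom.ker x).ResidueField (InertMod R A B) 1
  have hzero : ∀ a, l' (Submodule.Quotient.mk (Ideal.Quotient.mk (inertJ R A B) ((1 : B) ⊗ₜ[R] a))) = 0 := by
    intro a
    have compat : ∀ b : B, (Algebra.TensorProduct.includeLeft : K →ₐ[R] K ⊗[B] InertF R A B) (x b) =
        ((Algebra.TensorProduct.includeRight : InertF R A B →ₐ[B] K ⊗[B] InertF R A B).restrictScalars R)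
          (algebraMap B (InertF R A B) b) := fun b => by
      show (x b) ⊗ₜ[B] (1 : InertF R A B) = (1 : K) ⊗ₜ[B] (algebraMap B (InertF R A B) b)
      rw [Algebra.algebraMap_eq_smul_one, TensorProduct.tmul_smul, TensorProduct.smul_tmul', Algebra.smul_def,
        _root_.mul_one]
      rfl
    have hga := universal_test (L := K ⊗[B] InertF R A B) x hx
      (Algebra.TensorProduct.includeLeft : K →ₐ[R] K ⊗[B] InertF R A B)
      ((Algebra.TensorProduct.includeRight : InertF R A B →ₐ[B] K ⊗[B] InertF R A B).restrictScalars R) compat a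
    let L'' : K ⊗[B] InertF R A B →ₗ[B] K := LinearMap.mul' B K ∘ₗ
      TensorProduct.map LinearMap.id (l' ∘ₗ Submodule.mkQ _)
    have e1 : L'' ((1 : K) ⊗ₜ[B] Ideal.Quotient.mk (inertJ R A B) ((1 : B) ⊗ₜ[R] a)) =
        l' (Submodule.Quotient.mk (Ideal.Quotient.mk (inertJ R A B) ((1 : B) ⊗ₜ[R] a))) := by
      refine (LinearMap.mul'_apply (R := B) (A := K)).trans ?_
      exact _root_.one_mul _
    rw [← e1]
    refine (congrArg L'' hga).trans ?_
    refine (LinearMap.mul'_apply (R := B) (A := K)).trans ?_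
    have h1 : (Submodule.mkQ (LinearMap.range (Algebra.linearMap B (InertF R A B)))) 1 = 0 :=
      (Submodule.Quotient.mk_eq_zero _).mpr ⟨1, by simp⟩
    rw [LinearMap.comp_apply, h1, map_zero, mul_zero]
  have hl' : ∀ m, l' m = 0 := by
    intro m
    obtain ⟨f, rfl⟩ := Submodule.Quotient.mk_surjective _ m
    obtain ⟨z, rfl⟩ := Ideal.Quotient.mk_surjective f
    induction z using TensorProduct.induction_on with
    | zero => simp
    | tmul b a =>
      have : Ideal.Quotient.mk (inertJ R A B) (b ⊗ₜ[R] a) =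
          b • Ideal.Quotient.mk (inertJ R A B) ((1 : B) ⊗ₜ[R] a) := by
        show _ = Ideal.Quotient.mk _ (b • ((1 : B) ⊗ₜ[R] a))
        rw [TensorProduct.smul_tmul', smul_eq_mul, _root_.mul_one]
      rw [this, Submodule.Quotient.mk_smul, map_smul, hzero, smul_zero]
    | add u v hu hv => rw [map_add, Submodule.Quotient.mk_add, map_add, hu, hv, add_zero]
  apply hl
  refine TensorProduct.AlgebraTensorModule.ext fun c m => ?_
  rw [LinearMap.zero_apply, ← _root_.mul_one c, ← smul_eq_mul, ← TensorProduct.smul_tmul', map_smul]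
  have h0 : j (l ((1 : (RingHom.ker x).ResidueField) ⊗ₜ[B] m)) = 0 := hl' m
  rw [RingHom.injective j.toRingHom (h0.trans (map_zero j).symm), smul_zero]

theorem triv_moved {K : Type u} [CommRing K] [Algebra R K] (x : B →ₐ[R] K) (g : A →ₐ[R] K)
    (hx : Triv (A := A) x) : Triv (A := A) (moved x g) := by
  intro T h k hk
  have e : h ≫ pt (moved x g) = lift (h ≫ pt x) (h ≫ pt g) ≫ ract R A B := by
    rw [← comp_lift_assoc, lift_pt_ract]
  rw [e] at hk
  have h1 := hx T h ((h ≫ pt g) * k * (h ≫ pt g)⁻¹) (by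
    rw [← lift_ract_ract, ← lift_ract_ract, hk, lift_ract_ract, mul_inv_cancel, lift_one_ract])
  exact conj_eq_one_iff.mp h1

theorem exists_common (C : Subalgebra R B) (P Q : Ideal B) [P.IsPrime] [Q.IsPrime]
    (h : P.comap C.val.toRingHom = Q.comap C.val.toRingHom) :
    ∃ (K : Type u) (_ : Field K) (_ : IsAlgClosed K) (_ : Algebra R K) (y1 y2 : B →ₐ[R] K),
      RingHom.ker y1 = P ∧ RingHom.ker y2 = Q ∧ ∀ c ∈ C, y1 c = y2 c := by
  obtain ⟨z, hz1, hz2⟩ := Scheme.Pullback.exists_preimage_pullback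
    (f := Spec.map (CommRingCat.ofHom (algebraMap C B))) (g := Spec.map (CommRingCat.ofHom (algebraMap C B)))
    (⟨P, inferInstance⟩ : PrimeSpectrum B) (⟨Q, inferInstance⟩ : PrimeSpectrum B)
    (PrimeSpectrum.ext h)
  let w := (pullbackSpecIso C B B).hom.base z
  let K := AlgebraicClosure w.asIdeal.ResidueField
  let q : B ⊗[C] B →+* K :=
    (algebraMap w.asIdeal.ResidueField K).comp (algebraMap (B ⊗[C] B) w.asIdeal.ResidueField)
  have hq : RingHom.ker q = w.asIdeal := by
    rw [RingHom.ker_comp_of_injective _ (RingHom.injective _), Ideal.ker_algebraMap_residueField]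
  let r1 : B →+* K := q.comp Algebra.TensorProduct.includeLeftRingHom
  let r2 : B →+* K := q.comp
    (Algebra.TensorProduct.includeRight : B →ₐ[C] B ⊗[C] B).toRingHom
  have hr : ∀ c : C, r1 c = r2 c := fun c => by
    refine congrArg q ?_
    show (c : B) ⊗ₜ[C] (1 : B) = (1 : B) ⊗ₜ[C] (c : B)
    rw [show ((c : B)) = c • (1 : B) from (_root_.mul_one _).symm, TensorProduct.smul_tmul]
  letI algK : Algebra R K := (r1.comp (algebraMap R B)).toAlgebra
  refine ⟨K, inferInstance, inferInstance, algK, { r1 with commutes' := fun r => rfl },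
    { r2 with commutes' := fun r => (hr ⟨algebraMap R B r, C.algebraMap_mem r⟩).symm }, ?_, ?_,
    fun c hc => hr ⟨c, hc⟩⟩
  · show RingHom.ker r1 = P
    rw [← RingHom.comap_ker, hq]
    have e := congrArg (fun m => m.base z) (pullbackSpecIso_hom_fst C B B)
    exact congrArg PrimeSpectrum.asIdeal (e.trans hz1)
  · show RingHom.ker r2 = Q
    rw [← RingHom.comap_ker, hq]
    have e := congrArg (fun m => m.base z) (pullbackSpecIso_hom_snd C B B)
    exact congrArg PrimeSpectrum.asIdeal (e.trans hz2)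

/-- Trivial inertia at one point gives trivial inertia at all points over the same point of the quotient. -/
theorem notMem_support_of_comap_eq [Module.Finite R A] [Module.Projective R A] {K : Type u} [Field K]
    [Algebra R K] (x : B →ₐ[R] K) (hx : Triv (A := A) x) (P : PrimeSpectrum B)
    (hP : P.asIdeal.comap (GLin.invariants R A B).val.toRingHom =
      (RingHom.ker x).comap (GLin.invariants R A B).val.toRingHom) :
    P ∉ Module.support B (InertMod R A B) := by
  haveI := RingHom.ker_isPrime x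
  obtain ⟨K', _, _, _, y1, y2, h1, h2, hc⟩ :=
    exists_common (GLin.invariants R A B) (RingHom.ker x) P.asIdeal hP.symm
  have ht : Triv (A := A) y1 := triv_of_notMem y1 (by
    have := notMem_of_triv x hx
    have e : (⟨RingHom.ker y1, RingHom.ker_isPrime _⟩ : PrimeSpectrum B) =
        ⟨RingHom.ker x, RingHom.ker_isPrime _⟩ := PrimeSpectrum.ext h1
    rwa [e])
  obtain ⟨g, hg⟩ := exists_moved_eq y1 y2 hc
  have := notMem_of_triv y2 (hg ▸ triv_moved y1 g ht)
  have e : P = ⟨RingHom.ker y2, RingHom.ker_isPrime _⟩ := PrimeSpectrum.ext h2.symm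
  rwa [e]

end

end Groth.Agent.H60.InertiaBr
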