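import Groth.Prelude.Def_GLin
import Mathlib.RingTheory.HopfAlgebra.Convolution
import Mathlib.RingTheory.TensorProduct.Maps
import Mathlib.RingTheory.Finiteness.Projective
import Mathlib.LinearAlgebra.Matrix.Charpoly.Coeff
import Mathlib.LinearAlgebra.Matrix.ToLin
import Mathlib.LinearAlgebra.Matrix.ToLinearEquiv

/-!
Characteristic polynomials of elements of `S ⊗ A` for a finite projective algebra `A`, through an
embedding of `A` as a direct summand of a free module: multiplicativity, functoriality, invariance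
under automorphisms, Cayley–Hamilton, and non-zero roots over a field.
-/

set_option autoImplicit false
set_option linter.unusedSectionVars false

universe u v w w'

open TensorProduct Polynomial Matrix

namespace Groth.Agent.H60.InertiaBr

noncomputable section

/-- `A` as a direct summand of a finite free module. -/
structure Split (R : Type u) [CommRing R] (A : Type v) [CommRing A] [Algebra R A] where
  /-- the rank -/
  n : ℕ
  /-- the inclusion -/
  incF : A →ₗ[R] (Fin n → R)
  /-- the projection -/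
  prj : (Fin n → R) →ₗ[R] A
  prj_inc : ∀ a, prj (incF a) = a

theorem exists_split (R : Type u) [CommRing R] (A : Type v) [CommRing A] [Algebra R A]
    [Module.Finite R A] [Module.Projective R A] : Nonempty (Split R A) := by
  obtain ⟨n, f, g, -, -, hfg⟩ := Module.Finite.exists_comp_eq_id_of_projective R A
  exact ⟨⟨n, g, f, fun a => LinearMap.congr_fun hfg a⟩⟩

variable {R : Type u} [CommRing R] {A : Type v} [CommRing A] [Algebra R A] (σ : Split R A)
variable (S : Type w) [CommRing S] [Algebra R S]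

namespace Split

/-- The inclusion over `S`. -/
def incS : S ⊗[R] A →ₗ[S] (Fin σ.n → S) :=
  TensorProduct.AlgebraTensorModule.lift
    { toFun := fun s => s • (LinearMap.compLeft (Algebra.linearMap R S) (Fin σ.n)) ∘ₗ σ.incF
      map_add' := fun x y => add_smul x y _
      map_smul' := fun c x => by simp [smul_smul] }

@[simp] theorem incS_tmul (s : S) (a : A) (i : Fin σ.n) :
    σ.incS S (s ⊗ₜ[R] a) i = s * algebraMap R S (σ.incF a i) := by
  simp [incS]

/-- The projection over `S`. -/
def prjS : (Fin σ.n → S) →ₗ[S] S ⊗[R] A :=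
  Fintype.linearCombination S fun i => (1 : S) ⊗ₜ[R] σ.prj (Pi.single i 1)

theorem prjS_apply (v : Fin σ.n → S) :
    σ.prjS S v = ∑ i, v i ⊗ₜ[R] σ.prj (Pi.single i 1) := by
  simp [prjS, Fintype.linearCombination_apply, TensorProduct.smul_tmul', smul_eq_mul]

theorem prjS_incS (z : S ⊗[R] A) : σ.prjS S (σ.incS S z) = z := by
  induction z using TensorProduct.induction_on with
  | zero => simp
  | add x y hx hy => simp only [map_add, hx, hy]
  | tmul s a =>
    rw [prjS_apply]
    conv_rhs => rw [← σ.prj_inc a, pi_eq_sum_univ' (σ.incF a), map_sum, TensorProduct.tmul_sum]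
    refine Finset.sum_congr rfl fun i _ => ?_
    rw [incS_tmul, map_smul, TensorProduct.tmul_smul, TensorProduct.smul_tmul', Algebra.smul_def,
      mul_comm]

/-- The matrix of multiplication by `y`. -/
def mat (y : S ⊗[R] A) : Matrix (Fin σ.n) (Fin σ.n) S :=
  LinearMap.toMatrix' (σ.incS S ∘ₗ LinearMap.mulLeft S y ∘ₗ σ.prjS S)

theorem mat_mulVec (y : S ⊗[R] A) (v : Fin σ.n → S) :
    σ.mat S y *ᵥ v = σ.incS S (y * σ.prjS S v) := by
  rw [mat, ← Matrix.toLin'_apply, Matrix.toLin'_toMatrix']
  rfl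

theorem mat_add (y z : S ⊗[R] A) : σ.mat S (y + z) = σ.mat S y + σ.mat S z := by
  refine Matrix.ext_iff_mulVec.mpr fun v => ?_
  simp [Matrix.add_mulVec, mat_mulVec, add_mul]

theorem mat_zero : σ.mat S 0 = 0 := by
  refine Matrix.ext_iff_mulVec.mpr fun v => ?_
  simp [mat_mulVec]

theorem mat_smul (c : S) (y : S ⊗[R] A) : σ.mat S (c • y) = c • σ.mat S y := by
  refine Matrix.ext_iff_mulVec.mpr fun v => ?_
  simp [Matrix.smul_mulVec, mat_mulVec]

theorem mat_mul (y z : S ⊗[R] A) : σ.mat S (y * z) = σ.mat S y * σ.mat S z := by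
  refine Matrix.ext_iff_mulVec.mpr fun v => ?_
  rw [← Matrix.mulVec_mulVec, mat_mulVec, mat_mulVec, mat_mulVec, prjS_incS, mul_assoc]

theorem mat_injective {y : S ⊗[R] A} (h : σ.mat S y = 0) : y = 0 := by
  have := σ.mat_mulVec S y (σ.incS S 1)
  rw [h, Matrix.zero_mulVec, prjS_incS, mul_one] at this
  rw [← σ.prjS_incS S y, ← this, map_zero]

variable {S} {S' : Type w'} [CommRing S'] [Algebra R S']

theorem mat_map (φ : S →ₐ[R] S') (y : S ⊗[R] A) :
    σ.mat S' (Algebra.TensorProduct.map φ (AlgHom.id R A) y) = (σ.mat S y).map φ := by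
  ext i j
  simp only [Matrix.map_apply, mat, LinearMap.toMatrix'_apply, LinearMap.comp_apply]
  have h1 : σ.prjS S' (Pi.single j 1) =
      Algebra.TensorProduct.map φ (AlgHom.id R A) (σ.prjS S (Pi.single j 1)) := by
    rw [prjS_apply, prjS_apply, map_sum]
    refine Finset.sum_congr rfl fun k _ => ?_
    rw [Algebra.TensorProduct.map_tmul]
    rcases eq_or_ne k j with rfl | hk
    · simp
    · simp [hk]
  rw [LinearMap.mulLeft_apply, LinearMap.mulLeft_apply, h1, ← map_mul]
  induction y * σ.prjS S (Pi.single j 1) using TensorProduct.induction_on with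
  | zero => simp
  | add a b ha hb => simp only [map_add, Pi.add_apply, ha, hb]
  | tmul s a => simp

variable (S)

/-- The characteristic polynomial of `y`. -/
def cp (y : S ⊗[R] A) : S[X] := (σ.mat S y).charpoly

theorem cp_map (φ : S →ₐ[R] S') (y : S ⊗[R] A) :
    σ.cp S' (Algebra.TensorProduct.map φ (AlgHom.id R A) y) = (σ.cp S y).map φ := by
  rw [cp, cp, mat_map]
  exact Matrix.charpoly_map (σ.mat S y) φ.toRingHom

theorem monic_cp (y : S ⊗[R] A) : (σ.cp S y).Monic := Matrix.charpoly_monic _

theorem mat_aeval (y : S ⊗[R] A) (p : S[X]) :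
    σ.mat S (Polynomial.aeval y p) = σ.mat S 1 * Polynomial.aeval (σ.mat S y) p := by
  induction p using Polynomial.induction_on' with
  | add p q hp hq => rw [map_add, map_add, mat_add, hp, hq, mul_add]
  | monomial j c =>
    rw [aeval_monomial, aeval_monomial, ← Algebra.smul_def, ← Algebra.smul_def, mat_smul,
      Matrix.mul_smul]
    congr 1
    induction j with
    | zero => rw [pow_zero, pow_zero, mul_one]
    | succ j hj => rw [pow_succ, mat_mul, hj, pow_succ, mul_assoc]

theorem aeval_cp (y : S ⊗[R] A) : Polynomial.aeval y (σ.cp S y) = 0 := by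
  refine σ.mat_injective S ?_
  rw [mat_aeval, cp, Matrix.aeval_self_charpoly, mul_zero]

theorem cp_equiv (e : S ⊗[R] A ≃ₐ[S] S ⊗[R] A) (y : S ⊗[R] A) :
    σ.cp S (e y) = σ.cp S y := by
  let U : (Fin σ.n → S) →ₗ[S] (Fin σ.n → S) :=
    σ.incS S ∘ₗ e.toLinearMap ∘ₗ σ.prjS S + (LinearMap.id - σ.incS S ∘ₗ σ.prjS S)
  let V : (Fin σ.n → S) →ₗ[S] (Fin σ.n → S) :=
    σ.incS S ∘ₗ e.symm.toLinearMap ∘ₗ σ.prjS S + (LinearMap.id - σ.incS S ∘ₗ σ.prjS S)
  have hUV : U ∘ₗ V = LinearMap.id := by
    refine LinearMap.ext fun v => ?_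
    simp [U, V, prjS_incS]
  have hVU : V ∘ₗ U = LinearMap.id := by
    refine LinearMap.ext fun v => ?_
    simp [U, V, prjS_incS]
  let u : (Matrix (Fin σ.n) (Fin σ.n) S)ˣ :=
    ⟨LinearMap.toMatrix' U, LinearMap.toMatrix' V, by rw [← LinearMap.toMatrix'_comp, hUV,
      LinearMap.toMatrix'_id], by rw [← LinearMap.toMatrix'_comp, hVU, LinearMap.toMatrix'_id]⟩
  have h : σ.mat S (e y) = u.val * σ.mat S y * u⁻¹.val := by
    show _ = LinearMap.toMatrix' U * LinearMap.toMatrix' _ * LinearMap.toMatrix' V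
    rw [← LinearMap.toMatrix'_comp, ← LinearMap.toMatrix'_comp, mat]
    congr 1
    refine LinearMap.ext fun v => ?_
    simp [U, V, prjS_incS]
  rw [cp, cp, h]
  rw [Matrix.charpoly_mul_comm, ← mul_assoc, Units.inv_mul, one_mul]

end Split

section Field

variable {K : Type w} [Field K] [Algebra R K] [Module.Finite R A]

/-- The non-zero roots of the characteristic polynomial over a field are the eigenvalues. -/
theorem Split.isRoot_cp_iff {c : K} (hc : c ≠ 0) (y : K ⊗[R] A) :
    (σ.cp K y).IsRoot c ↔ ¬ IsUnit (algebraMap K (K ⊗[R] A) c - y) := by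
  haveI : Module.Finite K (K ⊗[R] A) := Module.Finite.base_change _ _ _
  rw [Polynomial.IsRoot, Split.cp, Matrix.eval_charpoly, ← Matrix.exists_mulVec_eq_zero_iff]
  have key : ∀ v, (Matrix.scalar (Fin σ.n) c - σ.mat K y) *ᵥ v = c • v - σ.incS K (y * σ.prjS K v) :=
    fun v => by rw [Matrix.sub_mulVec, σ.mat_mulVec, Matrix.scalar_apply, ← Matrix.smul_one_eq_diagonal,
      Matrix.smul_mulVec, Matrix.one_mulVec]
  constructor
  · rintro ⟨v, hv, h⟩
    rw [key, sub_eq_zero] at h
    have hw : σ.prjS K v ≠ 0 := fun h0 => hv <| by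
      rw [h0, mul_zero, map_zero] at h
      exact (smul_eq_zero.mp h).resolve_left hc
    have h' := congrArg (σ.prjS K) h
    rw [map_smul, σ.prjS_incS] at h'
    intro hu
    refine hw (hu.mul_right_eq_zero.mp ?_)
    rw [sub_mul, ← Algebra.smul_def, h', sub_self]
  · intro hu
    by_cases hinj : Function.Injective (LinearMap.mulLeft K (algebraMap K (K ⊗[R] A) c - y))
    · obtain ⟨z, hz⟩ := (LinearMap.injective_iff_surjective.mp hinj) 1
      exact absurd (IsUnit.of_mul_eq_one z hz) hu
    · rw [← LinearMap.ker_eq_bot, Submodule.eq_bot_iff] at hinj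
      push_neg at hinj
      obtain ⟨w, hw, hw0⟩ := hinj
      rw [LinearMap.mem_ker, LinearMap.mulLeft_apply, sub_mul, ← Algebra.smul_def, sub_eq_zero] at hw
      refine ⟨σ.incS K w, fun h => hw0 ?_, ?_⟩
      · rw [← σ.prjS_incS K w, h, map_zero]
      · rw [key, σ.prjS_incS, ← hw, map_smul, sub_self]

end Field

end

end Groth.Agent.H60.InertiaBr
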